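import Groth.Agent.VectPn.Chart
import Mathlib.LinearAlgebra.Eigenspace.Triangularizable
import Mathlib.FieldTheory.IsAlgClosed.AlgebraicClosure

/-!
Vector fields on projective space are linear and vanish at an eigenvector.
-/

set_option autoImplicit false
set_option backward.isDefEq.respectTransparency false
set_option backward.isDefEq.respectTransparency.types false
set_option linter.style.haveILetI false
set_option maxHeartbeats 800000

universe u

open CategoryTheory CategoryTheory.Limits AlgebraicGeometry TopologicalSpace Opposite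
open Groth.Agent.QC (res resO resO_resO section_eq_of_locally)
open Groth.Agent.PicPn (P ch z X_mem)

noncomputable section

namespace Groth.Agent.VectPn

variable {k : Type u} [Field k] {n : ℕ}

local notation "ℳ" => CohB1.polyGrading n k

variable (D : OmegaSh.Der (CohB1.ProjSpace.toSpec n k) (Coh.structureModule (CohB1.ProjSpace n k)))

/-- A derivation is given by linear forms. -/
theorem exists_linear_rep : ∃ L : Fin (n + 1) → MvPolynomial (Fin (n + 1)) k, (∀ j, L j ∈ ℳ 1) ∧
    ∀ l j, δ D (ch l) (z l j) = dh l (MvPolynomial.X l * L j - MvPolynomial.X j * L l) := by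
  classical
  obtain ⟨e, he, heC⟩ := PicPn.exists_chart (k := k) (0 : Fin (n + 1))
  have hz0 : z (k := k) (n := n) 0 0 = 1 := GrT.deh_self ℳ (X_mem 0)
  let p : {j : Fin (n + 1) // j ≠ 0} → MvPolynomial {j : Fin (n + 1) // j ≠ 0} k := fun j => e (δ D (ch 0) (z 0 j.1))
  obtain ⟨Λ, M, hΛ, hM, hp⟩ := exists_linear p (fun j => by
      have h := degree_le D e he heC 0 j.1
      rwa [hz0, δ_one, one_mul, mul_zero, sub_zero] at h)
    (fun l j => by
      have h := degree_le D e he heC l.1 j.1
      rwa [map_sub, map_mul, map_mul, he l.1 l.2, he j.1 j.2] at h)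
  obtain ⟨L₀, hL₀, hL₀e⟩ := exists_linear_form e he heC (-Λ) (by rwa [MvPolynomial.totalDegree_neg])
  choose Lj hLj hLje using fun j : {j : Fin (n + 1) // j ≠ 0} => exists_linear_form e he heC (M j) (hM j)
  let L : Fin (n + 1) → MvPolynomial (Fin (n + 1)) k := fun j => if h : j = 0 then L₀ else Lj ⟨j, h⟩
  have hL : ∀ j, L j ∈ ℳ 1 := fun j => by
    by_cases h : j = 0 <;> simp [L, h, hL₀, hLj]
  have hL0 : L 0 = L₀ := dif_pos rfl
  have hchart : ∀ j, δ D (ch 0) (z 0 j) = dh 0 (MvPolynomial.X 0 * L j - MvPolynomial.X j * L 0) := by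
    intro j
    by_cases h : j = 0
    · subst h
      rw [hz0, δ_one, sub_self, map_zero]
    · apply e.injective
      have hX0 : e (dh 0 (MvPolynomial.X 0)) = 1 := by rw [GrT.deh_self, map_one]
      rw [hL0, map_sub, map_mul, map_mul, map_sub, map_mul, map_mul, hX0, one_mul, hL₀e,
        show L j = Lj ⟨j, h⟩ from dif_neg h, hLje, he j h]
      show p ⟨j, h⟩ = _
      rw [hp]
      ring
  refine ⟨L, hL, fun l j => ?_⟩
  apply res_injective l 0 (ch 0 ⊓ ch l) (inf_comm _ _) inf_le_right
  have hrule := overlap_rule D l j (V := ch 0 ⊓ ch l) inf_le_left inf_le_right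
  have hu : IsUnit (resO (P n k) (inf_le_left : ch (k := k) 0 ⊓ ch l ≤ ch 0) (z 0 l) ^ 2) :=
    (GrT.isUnit_deh ℳ (X_mem (k := k) (0 : Fin (n + 1))) (X_mem l) inf_le_left inf_le_right).pow 2
  refine hu.mul_left_cancel (hrule.trans ?_)
  have hG : MvPolynomial.X l * L j - MvPolynomial.X j * L l ∈ ℳ 2 :=
    Submodule.sub_mem _ (SetLike.mul_mem_graded (X_mem l) (hL j)) (SetLike.mul_mem_graded (X_mem j) (hL l))
  rw [← map_pow, show z (k := k) 0 l ^ 2 = dh 0 (MvPolynomial.X l ^ 2) from (map_pow _ _ _).symm,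
    ← GrT.deh_cross ℳ (X_mem (k := k) (0 : Fin (n + 1))) (X_mem l) hG inf_le_left inf_le_right, hchart, hchart]
  congr 1
  rw [show z (k := k) 0 l = dh 0 (MvPolynomial.X l) from rfl, show z (k := k) 0 j = dh 0 (MvPolynomial.X j) from rfl,
    ← map_mul, ← map_mul, ← map_sub,
    show MvPolynomial.X l * (MvPolynomial.X 0 * L j - MvPolynomial.X j * L 0) -
      MvPolynomial.X j * (MvPolynomial.X 0 * L l - MvPolynomial.X l * L 0) =
      MvPolynomial.X 0 * (MvPolynomial.X l * L j - MvPolynomial.X j * L l) by ring,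
    map_mul, GrT.deh_self, one_mul]

/-- A linear form is linear. -/
theorem aeval_linear {R : Type u} [CommRing R] [Algebra k R] {F : MvPolynomial (Fin (n + 1)) k} (hF : F ∈ ℳ 1)
    (v : Fin (n + 1) → R) : MvPolynomial.aeval v F = ∑ m, F.coeff (Finsupp.single m 1) • v m := by
  classical
  change F ∈ MvPolynomial.homogeneousSubmodule (Fin (n + 1)) k 1 at hF
  rw [MvPolynomial.homogeneousSubmodule_one_eq_span_X] at hF
  induction hF using Submodule.span_induction with
  | mem x hx =>
    obtain ⟨i, rfl⟩ := hx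
    rw [MvPolynomial.aeval_X, Finset.sum_eq_single i]
    · simp [MvPolynomial.coeff_X]
    · intro m _ hm
      rw [MvPolynomial.coeff_X', if_neg (fun h => hm ((Finsupp.single_left_injective one_ne_zero) h).symm), zero_smul]
    · simp
  | zero => simp
  | add x y _ _ hx hy => simp [map_add, hx, hy, add_smul, Finset.sum_add_distrib]
  | smul c x _ hx => simp [map_smul, hx, Finset.smul_sum, mul_smul]

/-- Vector fields have zeros. -/
theorem exists_zero (ξ : Omega.sheaf (CohB1.ProjSpace.toSpec n k) ⟶ Coh.structureModule (CohB1.ProjSpace n k)) :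
    ∃ x : ↥(CohB1.ProjSpace n k), ∀ (U : (CohB1.ProjSpace n k).Opens) (hx : x ∈ U)
      (s : Γ(Omega.sheaf (CohB1.ProjSpace.toSpec n k), U)),
      (CohB1.ProjSpace n k).presheaf.germ U x hx (OmegaSh.fnSect (CohB1.ProjSpace n k) U (ξ.app U s)) ∈
        IsLocalRing.maximalIdeal ((CohB1.ProjSpace n k).presheaf.stalk x) := by
  classical
  haveI := ProjMor.isProper_toSpec n k
  let d := OmegaSh.dOmega (CohB1.ProjSpace.toSpec n k)
  have hd : OmegaSh.IsUniversal d := OmegaLib.isUniversal_dOmega _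
  let D : OmegaSh.Der (CohB1.ProjSpace.toSpec n k) (Coh.structureModule (CohB1.ProjSpace n k)) := d.postcomp ξ.val
  obtain ⟨L, hL, hrep⟩ := exists_linear_rep D
  let K := AlgebraicClosure k
  let A : Matrix (Fin (n + 1)) (Fin (n + 1)) K := fun j m => algebraMap k K ((L j).coeff (Finsupp.single m 1))
  obtain ⟨μ, hμ⟩ := Module.End.exists_eigenvalue (Matrix.toLin' A)
  obtain ⟨v, hv⟩ := hμ.exists_hasEigenvector
  have hv' : ∀ j, MvPolynomial.aeval v (L j) = μ * v j := fun j => by
    rw [aeval_linear (hL j)]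
    have h := congrFun hv.apply_eq_smul j
    rw [Matrix.toLin'_apply, Pi.smul_apply, smul_eq_mul] at h
    rw [← h, Matrix.mulVec, dotProduct]
    exact Finset.sum_congr rfl fun m _ => Algebra.smul_def _ _
  obtain ⟨l, hl⟩ : ∃ l, v l ≠ 0 := Function.ne_iff.1 hv.2
  let w : Fin (n + 1) → K := fun j => v j / v l
  have hwL : ∀ j, MvPolynomial.aeval w (L j) = μ * w j := fun j => by
    rw [aeval_linear (hL j)]
    show _ = μ * (v j / v l)
    rw [← mul_div_assoc, ← hv' j, aeval_linear (hL j), Finset.sum_div]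
    exact Finset.sum_congr rfl fun m _ => by rw [Algebra.smul_def, Algebra.smul_def, mul_div_assoc]
  let φ : MvPolynomial (Fin (n + 1)) k →+* K := (MvPolynomial.aeval w).toRingHom
  have hφl : φ (MvPolynomial.X l) = 1 := (MvPolynomial.aeval_X w l).trans (div_self hl)
  let χ : Γ(P n k, ch l) →+* K := ProjMor.chartHom (X_mem l) φ hφl
  have hχ : ∀ F, χ (dh l F) = MvPolynomial.aeval w F := fun F => ProjMor.chartHom_deh (X_mem l) φ hφl F
  have hvan : ∀ a, χ (δ D (ch l) a) = 0 := by
    intro a
    obtain ⟨F, rfl⟩ := ProjMor.exists_deh_eq (X_mem (k := k) l) a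
    induction F using MvPolynomial.induction_on with
    | C c => rw [δ_C, map_zero]
    | add p q hp hq => rw [map_add, map_add, map_add, hp, hq, add_zero]
    | mul_X p j hp =>
      rw [map_mul, δ_mul, map_add, map_mul, map_mul, hp, mul_zero, add_zero,
        show δ D (ch l) (GrT.deh ℳ (X_mem l) (MvPolynomial.X j)) = _ from hrep l j, hχ p, hχ, map_sub, map_mul,
        map_mul, MvPolynomial.aeval_X, MvPolynomial.aeval_X, hwL, hwL]
      ring
  let hU := PicPn.isAffineOpen_ch (k := k) l
  let pp : PrimeSpectrum Γ(P n k, ch l) := ⟨RingHom.ker χ, RingHom.ker_isPrime χ⟩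
  let x : P n k := hU.fromSpec pp
  have hxl : x ∈ ch (k := k) l := hU.range_fromSpec.le ⟨pp, rfl⟩
  have hgerm : ∀ a : Γ(P n k, ch l), χ a = 0 ↔
      (P n k).presheaf.germ (ch l) x hxl a ∈ IsLocalRing.maximalIdeal _ := by
    intro a
    have hp : hU.primeIdealOf ⟨x, hxl⟩ = pp :=
      hU.fromSpec.isOpenEmbedding.injective (hU.fromSpec_primeIdealOf ⟨x, hxl⟩)
    have h1 : a ∈ (hU.primeIdealOf ⟨x, hxl⟩).asIdeal ↔ a ∈ RingHom.ker χ := by rw [hp]
    rw [hU.primeIdealOf_eq_map_closedPoint] at h1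
    exact h1.symm
  refine ⟨x, fun U hx s => ?_⟩
  obtain ⟨g, hgle, hxg⟩ := hU.exists_basicOpen_le (V := U) ⟨x, hx⟩ hxl
  set W := (P n k).basicOpen g
  have hW : IsAffineOpen W := hU.basicOpen g
  have hWl : W ≤ ch l := (P n k).basicOpen_le g
  have hδW : ∀ b : Γ(P n k, W), (P n k).presheaf.germ W x hxg (δ D W b) ∈ IsLocalRing.maximalIdeal _ := by
    intro b
    letI : Algebra Γ(P n k, ch l) Γ(P n k, W) := (resO (P n k) hWl).toAlgebra
    haveI : IsLocalization.Away g Γ(P n k, W) := hU.isLocalization_basicOpen g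
    obtain ⟨N, a, hba⟩ := IsLocalization.Away.surj g b
    have hba' : b * resO (P n k) hWl (g ^ N) = resO (P n k) hWl a := by rw [map_pow]; exact hba
    have h := congrArg (δ D W) hba'
    rw [δ_mul, ← res_δ, ← res_δ] at h
    have h' := congrArg ((P n k).presheaf.germ W x hxg) h
    rw [map_add, map_mul, map_mul] at h'
    have hres : ∀ c : Γ(P n k, ch l), (P n k).presheaf.germ W x hxg (resO (P n k) hWl c) =
        (P n k).presheaf.germ (ch l) x hxl c := fun c =>
      TopCat.Presheaf.germ_res_apply (P n k).presheaf (homOfLE hWl) x hxg c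
    rw [hres, hres, hres] at h'
    have hu : IsUnit ((P n k).presheaf.germ (ch l) x hxl (g ^ N)) := by
      rw [map_pow]
      exact ((Scheme.mem_basicOpen _ g x hxl).1 hxg).pow N
    refine (Ideal.unit_mul_mem_iff_mem _ hu).1 ?_
    rw [eq_sub_of_add_eq' h']
    exact Ideal.sub_mem _ ((hgerm _).1 (hvan a)) (Ideal.mul_mem_left _ _ ((hgerm _).1 (hvan _)))
  have hspan := OmegaLib.span_app hd (V := ⊤) (show W ≤ CohB1.ProjSpace.toSpec n k ⁻¹ᵁ ⊤ from le_top) hW
    (isAffineOpen_top _)
  have key : ∀ t : Γ(Omega.sheaf (CohB1.ProjSpace.toSpec n k), W),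
      (P n k).presheaf.germ W x hxg (OmegaSh.fnSect (CohB1.ProjSpace n k) W (ξ.app W t)) ∈
        IsLocalRing.maximalIdeal _ := by
    intro t
    have ht : t ∈ Submodule.span Γ(P n k, W) (Set.range (d.app W)) := hspan ▸ Submodule.mem_top
    induction ht using Submodule.span_induction with
    | mem t ht =>
      obtain ⟨b, rfl⟩ := ht
      exact hδW b
    | zero => rw [map_zero, map_zero, map_zero]; exact Ideal.zero_mem _
    | add a b _ _ ha hb => rw [map_add, map_add, map_add]; exact Ideal.add_mem _ ha hb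
    | smul r a _ ha =>
      rw [TMul.app_smul]
      let r' : Γ(CohB1.ProjSpace n k, W) := r
      show (P n k).presheaf.germ W x hxg (r' * OmegaSh.fnSect (CohB1.ProjSpace n k) W (ξ.app W a)) ∈ _
      rw [map_mul]
      exact Ideal.mul_mem_left _ _ ha
  have h := key (res _ hgle s)
  rw [← QC.app_res] at h
  rw [← TopCat.Presheaf.germ_res_apply (CohB1.ProjSpace n k).presheaf (homOfLE hgle) x hxg]
  exact h

end Groth.Agent.VectPn
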