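import Mathlib

/-!
Polynomial lemma: vector fields of degree at most two with the projective cancellation.
-/

set_option autoImplicit false

universe u v

open MvPolynomial

namespace Groth.Agent.VectPn

variable {k : Type u} [Field k] {ι : Type v}

/-- Homogeneous components above the total degree vanish; at most two here. -/
theorem eq_add_comp (p : MvPolynomial ι k) (hp : p.totalDegree ≤ 2) :
    p = homogeneousComponent 0 p + homogeneousComponent 1 p + homogeneousComponent 2 p := by
  classical
  ext d
  simp only [coeff_add, coeff_homogeneousComponent]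
  by_cases h : coeff d p = 0
  · simp [h]
  have hd : d.degree ≤ 2 := (le_totalDegree (mem_support_iff.2 h)).trans hp
  interval_cases hdd : d.degree <;> simp

/-- The degree two parts of a projective vector field are `y_j Λ`. -/
theorem exists_radial (g : ι → MvPolynomial ι k) (hg : ∀ j, (g j).IsHomogeneous 2)
    (h : ∀ l j, X l * g j = X j * g l) : ∃ Λ : MvPolynomial ι k, ∀ j, g j = X j * Λ := by
  classical
  cases isEmpty_or_nonempty ι with
  | inl hι => exact ⟨0, fun j => hι.elim j⟩
  | inr hι =>
  obtain ⟨l₀⟩ := hι
  have hdvd : (X l₀ : MvPolynomial ι k) ∣ g l₀ := by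
    by_cases hsub : ∃ j, j ≠ l₀
    · obtain ⟨j, hj⟩ := hsub
      have h1 : (X l₀ : MvPolynomial ι k) ∣ X j * g l₀ := ⟨g j, (h l₀ j).symm⟩
      rcases (X_prime (σ := ι) (R := k)).dvd_or_dvd h1 with h2 | h2
      · exact absurd (X_dvd_X.1 h2).symm (fun e => hj e)
      · exact h2
    · push Not at hsub
      rw [X_dvd_iff_modMonomial_eq_zero]
      ext d
      rw [coeff_zero]
      by_cases hd : Finsupp.single l₀ 1 ≤ d
      · exact coeff_modMonomial_of_le _ hd
      · rw [coeff_modMonomial_of_not_le _ hd]
        refine (hg l₀).coeff_eq_zero fun hdeg => hd ?_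
        have hd' : d = Finsupp.single l₀ (d l₀) := by
          ext i
          rw [hsub i, Finsupp.single_eq_same]
        rw [hd', Finsupp.degree_single] at hdeg
        rw [Finsupp.single_le_iff, hdeg]
        norm_num
  obtain ⟨Λ, hΛ⟩ := hdvd
  refine ⟨Λ, fun j => mul_left_cancel₀ (X_ne_zero (R := k) l₀) ?_⟩
  rw [h l₀ j, hΛ]
  ring

/-- A polynomial of degree at most one is affine linear. -/
theorem mem_span_of_degree_le_one (p : MvPolynomial ι k) (hp : p.totalDegree ≤ 1) :
    p ∈ Submodule.span k (insert 1 (Set.range fun i : ι => (X i : MvPolynomial ι k))) := by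
  classical
  rw [p.as_sum]
  refine Submodule.sum_mem _ fun d hd => ?_
  rw [← mul_one (coeff d p), ← smul_eq_mul, ← smul_monomial]
  refine Submodule.smul_mem _ _ (Submodule.subset_span ?_)
  have hd1 : d.degree ≤ 1 := (le_totalDegree hd).trans hp
  rcases Nat.le_one_iff_eq_zero_or_eq_one.1 hd1 with h0 | h1
  · left
    rw [(Finsupp.degree_eq_zero_iff d).1 h0]
    rfl
  · right
    obtain ⟨i, hi⟩ : ∃ i, d = Finsupp.single i 1 := by
      have hne : d ≠ 0 := fun h => by rw [h, map_zero] at h1; exact zero_ne_one h1
      obtain ⟨i, hi⟩ := Finsupp.support_nonempty_iff.2 hne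
      have hle : Finsupp.single i 1 ≤ d := Finsupp.single_le_iff.2 (Nat.one_le_iff_ne_zero.2 (Finsupp.mem_support_iff.1 hi))
      obtain ⟨e, he⟩ := le_iff_exists_add.1 hle
      refine ⟨i, ?_⟩
      rw [he, map_add, Finsupp.degree_single] at h1
      have he0 : e = 0 := (Finsupp.degree_eq_zero_iff e).1 (by omega)
      rw [he, he0, add_zero]
    exact ⟨i, by rw [hi]; rfl⟩

/-- Projective vector fields in coordinates. -/
theorem exists_linear (p : ι → MvPolynomial ι k) (hp : ∀ j, (p j).totalDegree ≤ 2)
    (h : ∀ l j, (X l * p j - X j * p l).totalDegree ≤ 2) :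
    ∃ (Λ : MvPolynomial ι k) (M : ι → MvPolynomial ι k), Λ.totalDegree ≤ 1 ∧ (∀ j, (M j).totalDegree ≤ 1) ∧
      ∀ j, p j = M j + X j * Λ := by
  classical
  have hrad : ∀ l j, X l * homogeneousComponent 2 (p j) = X j * homogeneousComponent 2 (p l) := by
    intro l j
    have hz : homogeneousComponent 3 (X l * p j - X j * p l) = 0 :=
      homogeneousComponent_eq_zero _ _ ((h l j).trans_lt (by norm_num))
    have key : ∀ (a b : ι), homogeneousComponent 3 (X a * p b) = X a * homogeneousComponent 2 (p b) := by
      intro a b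
      have hX : (X a : MvPolynomial ι k).IsHomogeneous 1 := isHomogeneous_X k a
      conv_lhs => rw [eq_add_comp (p b) (hp b), mul_add, mul_add, map_add, map_add]
      rw [homogeneousComponent_of_mem (hX.mul (homogeneousComponent_isHomogeneous 0 (p b))),
        homogeneousComponent_of_mem (hX.mul (homogeneousComponent_isHomogeneous 1 (p b))),
        homogeneousComponent_of_mem (hX.mul (homogeneousComponent_isHomogeneous 2 (p b)))]
      norm_num
    rw [map_sub, key, key, sub_eq_zero] at hz
    exact hz
  obtain ⟨Λ, hΛ⟩ := exists_radial (fun j => homogeneousComponent 2 (p j))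
    (fun j => homogeneousComponent_isHomogeneous 2 (p j)) hrad
  refine ⟨Λ, fun j => homogeneousComponent 0 (p j) + homogeneousComponent 1 (p j), ?_, fun j => ?_, fun j => ?_⟩
  · rcases eq_or_ne Λ 0 with rfl | h0
    · simp
    cases isEmpty_or_nonempty ι with
    | inl hι =>
      refine Finset.sup_le fun d _ => ?_
      rw [Subsingleton.elim d 0]
      simp
    | inr hι =>
      obtain ⟨l⟩ := hι
      have := (homogeneousComponent_isHomogeneous 2 (p l)).totalDegree_le
      rw [show homogeneousComponent 2 (p l) = X l * Λ from hΛ l,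
        totalDegree_mul_of_isDomain (X_ne_zero l) h0, totalDegree_X] at this
      omega
  · exact (totalDegree_add _ _).trans (max_le ((homogeneousComponent_isHomogeneous 0 (p j)).totalDegree_le.trans
      (by norm_num)) (homogeneousComponent_isHomogeneous 1 (p j)).totalDegree_le)
  · rw [← hΛ]
    exact eq_add_comp (p j) (hp j)

end Groth.Agent.VectPn
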