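import Groth.Agent.VectPn.Alg
import Groth.Agent.PicPn.Chart
import Groth.Agent.OmegaLib.FiniteType
import Groth.Agent.OmegaLib.Compat

/-!
Derivations of the structure sheaf of projective space on the standard charts.
-/

set_option autoImplicit false
set_option backward.isDefEq.respectTransparency false
set_option backward.isDefEq.respectTransparency.types false
set_option linter.style.haveILetI false
set_option maxHeartbeats 800000

universe u

open CategoryTheory CategoryTheory.Limits AlgebraicGeometry TopologicalSpace Opposite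
open Groth.Agent.QC (res resO resO_resO)
open Groth.Agent.PicPn (P ch z X_mem)

noncomputable section

namespace Groth.Agent.VectPn

variable {k : Type u} [Field k] {n : ℕ}

local notation "ℳ" => CohB1.polyGrading n k
/-- Dehomogenisation on the chart `i`. -/
abbrev dh (i : Fin (n + 1)) : MvPolynomial (Fin (n + 1)) k →+* Γ(P n k, ch (k := k) i) :=
  GrT.deh (CohB1.polyGrading n k) (X_mem i)

variable (D : OmegaSh.Der (CohB1.ProjSpace.toSpec n k) (Coh.structureModule (CohB1.ProjSpace n k)))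

/-- A derivation with values in functions. -/
def δ (U : (P n k).Opens) : Γ(P n k, U) →+ Γ(P n k, U) :=
  AddMonoidHom.mk' (fun a => OmegaSh.fnSect (CohB1.ProjSpace n k) U (D.app U a))
    fun a b => by rw [map_add, map_add]

theorem δ_mul (U : (P n k).Opens) (a b : Γ(P n k, U)) : δ D U (a * b) = a * δ D U b + b * δ D U a :=
  OmegaLib.app_mul D U a b

theorem res_δ {V U : (P n k).Opens} (h : V ≤ U) (a : Γ(P n k, U)) :
    resO (P n k) h (δ D U a) = δ D V (resO (P n k) h a) :=
  OmegaLib.res_app D h a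

theorem δ_one (U : (P n k).Opens) : δ D U 1 = 0 := by
  have h := δ_mul D U 1 1
  simp only [one_mul] at h
  exact left_eq_add.1 h

theorem δ_C (i : Fin (n + 1)) (c : k) : δ D (ch i) (dh i (MvPolynomial.C c)) = 0 := by
  have e : ch (k := k) i ≤ CohB1.ProjSpace.toSpec n k ⁻¹ᵁ ⊤ := le_top
  have h := OmegaLib.app_appLE D e ((Scheme.ΓSpecIso (CommRingCat.of k)).inv c)
  have hc : (CohB1.ProjSpace.toSpec n k).appLE ⊤ (ch i) e ((Scheme.ΓSpecIso (CommRingCat.of k)).inv c) =
      dh i (MvPolynomial.C c) :=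
    (ProjMor.res_toGlobal_base (𝒜 := ℳ) (X_mem i) c)
  exact (congrArg (fun a => OmegaSh.fnSect (CohB1.ProjSpace n k) (ch i) (D.app (ch i) a)) hc.symm).trans
    ((congrArg _ h).trans (map_zero _))

variable (e : Γ(P n k, ch (k := k) (0 : Fin (n + 1))) ≃+* MvPolynomial {j : Fin (n + 1) // j ≠ 0} k)
  (he : ∀ (j : Fin (n + 1)) (h : j ≠ 0), e (z 0 j) = MvPolynomial.X ⟨j, h⟩)
  (heC : ∀ c, e (dh 0 (MvPolynomial.C c)) = MvPolynomial.C c)

include he in
theorem e_X_degree (j : Fin (n + 1)) : (e (z 0 j)).totalDegree ≤ 1 := by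
  rcases eq_or_ne j 0 with rfl | h
  · rw [show z (k := k) (n := n) 0 0 = 1 from GrT.deh_self ℳ (X_mem 0), map_one, MvPolynomial.totalDegree_one]
    exact zero_le_one
  · rw [he j h, MvPolynomial.totalDegree_X]

include he heC in
theorem degree_dehom {N : ℕ} {F : MvPolynomial (Fin (n + 1)) k} (hF : F ∈ ℳ N) :
    (e (dh 0 F)).totalDegree ≤ N := by
  classical
  rw [F.as_sum, map_sum, map_sum]
  refine (MvPolynomial.totalDegree_finset_sum _ _).trans (Finset.sup_le fun d hd => ?_)
  have hdN : d.degree = N := by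
    by_contra h
    exact MvPolynomial.mem_support_iff.1 hd
      (MvPolynomial.IsHomogeneous.coeff_eq_zero ((MvPolynomial.mem_homogeneousSubmodule N F).1 hF) h)
  rw [MvPolynomial.monomial_eq, map_mul, map_mul, heC, ← hdN]
  refine (MvPolynomial.totalDegree_mul _ _).trans ?_
  rw [MvPolynomial.totalDegree_C, zero_add, Finsupp.prod, map_prod, map_prod]
  refine (MvPolynomial.totalDegree_finset_prod _ _).trans (le_trans (Finset.sum_le_sum fun j _ => ?_) le_rfl)
  rw [map_pow, map_pow]
  exact (MvPolynomial.totalDegree_pow _ _).trans (Nat.mul_le_mul_left _ (e_X_degree e he j) |>.trans (by rw [mul_one]))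

include he heC in
theorem exists_linear_form (q : MvPolynomial {j : Fin (n + 1) // j ≠ 0} k) (hq : q.totalDegree ≤ 1) :
    ∃ L ∈ ℳ 1, e (dh 0 L) = q := by
  let T : MvPolynomial (Fin (n + 1)) k →ₐ[k] MvPolynomial {j : Fin (n + 1) // j ≠ 0} k :=
    { e.toRingHom.comp (GrT.deh ℳ (X_mem 0)) with commutes' := heC }
  have hle : Submodule.span k (insert 1 (Set.range fun i => (MvPolynomial.X i : MvPolynomial {j : Fin (n + 1) // j ≠ 0} k))) ≤
      (ℳ 1).map T.toLinearMap := by
    rw [Submodule.span_le]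
    rintro _ (rfl | ⟨⟨j, hj⟩, rfl⟩)
    · exact ⟨MvPolynomial.X 0, X_mem 0, show e (dh 0 (MvPolynomial.X 0)) = 1 by
        rw [GrT.deh_self, map_one]⟩
    · exact ⟨MvPolynomial.X j, X_mem j, he j hj⟩
  obtain ⟨L, hL, hLq⟩ := hle (mem_span_of_degree_le_one q hq)
  exact ⟨L, hL, hLq⟩

theorem basicOpen_ne_bot (l : Fin (n + 1)) : z (k := k) 0 l ≠ 0 := by
  rcases eq_or_ne l 0 with rfl | h
  · rw [show z (k := k) (n := n) 0 0 = 1 from GrT.deh_self ℳ (X_mem 0)]
    obtain ⟨e', -⟩ := PicPn.exists_chart (k := k) (0 : Fin (n + 1))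
    exact fun h => one_ne_zero (α := MvPolynomial {j : Fin (n + 1) // j ≠ 0} k) (by rw [← map_one e', h, map_zero])
  · exact (PicPn.prime_z 0 l h).ne_zero

/-- Functions on a chart are determined on the overlap with another chart. -/
theorem res_injective (i l : Fin (n + 1)) (V : (P n k).Opens) (hV : V = ch i ⊓ ch l) (h : V ≤ ch i) :
    Function.Injective (resO (P n k) h) := by
  rw [PicPn.ch_inf] at hV
  subst hV
  letI : Algebra Γ(P n k, ch i) Γ(P n k, (P n k).basicOpen (z i l)) := (resO (P n k) h).toAlgebra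
  haveI : IsLocalization.Away (z i l) Γ(P n k, (P n k).basicOpen (z i l)) :=
    (PicPn.isAffineOpen_ch i).isLocalization_basicOpen _
  obtain ⟨e', he', -⟩ := PicPn.exists_chart (k := k) i
  haveI : IsDomain Γ(P n k, ch i) := e'.toMulEquiv.isDomain _
  refine IsLocalization.injective (M := Submonoid.powers (z i l)) _ (powers_le_nonZeroDivisors_of_noZeroDivisors ?_)
  intro h0
  rcases eq_or_ne l i with rfl | hl
  · have h1 := congrArg e' h0
    rw [show z (k := k) (n := n) l l = 1 from GrT.deh_self ℳ (X_mem l), map_one, map_zero] at h1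
    exact one_ne_zero h1
  · exact (PicPn.prime_z i l hl).ne_zero h0

/-- The quotient rule on an overlap. -/
theorem overlap_rule (l j : Fin (n + 1)) {V : (P n k).Opens} (h0 : V ≤ ch 0) (hl : V ≤ ch l) :
    resO (P n k) h0 (z 0 l) ^ 2 * resO (P n k) hl (δ D (ch l) (z l j)) =
      resO (P n k) h0 (z 0 l * δ D (ch 0) (z 0 j) - z 0 j * δ D (ch 0) (z 0 l)) := by
  have h := GrT.deh_cross ℳ (X_mem (k := k) (0 : Fin (n + 1))) (X_mem l) (X_mem j) h0 hl
  rw [pow_one] at h
  rw [map_sub, map_mul, map_mul, res_δ, res_δ, res_δ, show resO (P n k) h0 (z 0 j) =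
    resO (P n k) h0 (z 0 l) * resO (P n k) hl (z l j) from h, δ_mul]
  ring

include he heC in
theorem degree_le_aux (l j : Fin (n + 1)) (hl : l ≠ 0) :
    (e (z 0 l * δ D (ch 0) (z 0 j) - z 0 j * δ D (ch 0) (z 0 l))).totalDegree ≤ 2 := by
  obtain ⟨N, F, hF, -, hFeq⟩ := GrT.exists_away ℳ (X_mem (k := k) l) one_pos (δ D (ch l) (z l j))
  have hFN : F ∈ ℳ N := by simpa using hF
  have h2 : z 0 l ^ N * (z 0 l * δ D (ch 0) (z 0 j) - z 0 j * δ D (ch 0) (z 0 l)) = z 0 l ^ 2 * dh 0 F := by
    apply res_injective 0 l (ch 0 ⊓ ch l) rfl inf_le_left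
    rw [map_mul, ← overlap_rule D l j inf_le_left inf_le_right, map_mul, map_pow, map_pow,
      GrT.deh_cross ℳ (X_mem (k := k) (0 : Fin (n + 1))) (X_mem l) hFN inf_le_left inf_le_right,
      GrT.deh_of_mem ℳ (X_mem l) hFN, map_pow, map_pow, ← hFeq]
    ring
  set r := z 0 l * δ D (ch 0) (z 0 j) - z 0 j * δ D (ch 0) (z 0 l)
  have h3 := congrArg e h2
  rw [map_mul, map_mul, map_pow, map_pow] at h3
  rcases eq_or_ne (e r) 0 with h0 | h0
  · rw [h0, MvPolynomial.totalDegree_zero]; exact Nat.zero_le _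
  have hy : e (z 0 l) ≠ 0 := by rw [he l hl]; exact MvPolynomial.X_ne_zero _
  have hdeg := congrArg MvPolynomial.totalDegree h3
  rw [MvPolynomial.totalDegree_mul_of_isDomain (pow_ne_zero _ hy) h0, he l hl,
    MvPolynomial.totalDegree_X_pow] at hdeg
  have := (MvPolynomial.totalDegree_mul (MvPolynomial.X (⟨l, hl⟩ : {j : Fin (n + 1) // j ≠ 0}) ^ 2) (e (dh 0 F)))
  rw [MvPolynomial.totalDegree_X_pow] at this
  have := degree_dehom e he heC hFN
  skip
  omega

include he heC in
/-- Derivations have degree at most two in the chart. -/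
theorem degree_le (l j : Fin (n + 1)) :
    (e (z 0 l * δ D (ch 0) (z 0 j) - z 0 j * δ D (ch 0) (z 0 l))).totalDegree ≤ 2 := by
  rcases eq_or_ne l 0 with rfl | hl
  · rcases eq_or_ne j 0 with rfl | hj
    · simp
    · rw [← neg_sub, map_neg, MvPolynomial.totalDegree_neg]
      exact degree_le_aux D e he heC j 0 hj
  · exact degree_le_aux D e he heC l j hl

end Groth.Agent.VectPn
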